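import Cfsg.Agent.H53.U34.Chars.Orth
import Cfsg.Agent.CycOne.Galois
import Cfsg.Agent.CharBasic.Rep

/-!
# The columns of the principal block: integral Fourier coefficients, Galois action, column relations
-/

set_option autoImplicit false
set_option linter.unusedSectionVars false

open scoped ComplexConjugate Classical

namespace Cfsg.Agent.H53.U34

open Subgroup CharBasic

universe u

variable {G : Type u} [Group G] [Fintype G]

/-- Values on the powers of an element through its eigenvalues. -/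
theorem exists_eigen_pow (χ : IrrCharacter G) (g : G) :
    ∃ (k : ℕ) (μ : Fin k → ℂ), (∀ i, μ i ^ orderOf g = 1) ∧
      ∀ j : ℕ, (χ : G → ℂ) (g ^ j) = ∑ i, μ i ^ j := by
  obtain ⟨n, ρ, -, he⟩ := χ.2
  obtain ⟨b, μ, h1, h2, -⟩ := exists_eigenbasis_rep ρ g
  refine ⟨_, μ, h2, fun j => ?_⟩
  rw [← he]
  refine trace_eq_sum_of_eigenbasis b _ _ fun i => ?_
  induction j with
  | zero => simp
  | succ j ih =>
    rw [pow_succ, map_mul, Module.End.mul_apply, h1, map_smul, ih, smul_smul, ← pow_succ']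

/-- A sum of odd powers of a `2N`-th root of unity is an integral multiple of `N`. -/
theorem exists_int_sum_odd_pow {N : ℕ} (w : ℂ) (hw : w ^ (2 * N) = 1) :
    ∃ e : ℤ, ∑ i ∈ Finset.range N, w ^ (2 * i + 1) = N * e := by
  have e0 : ∀ i, w ^ (2 * i + 1) = (w ^ 2) ^ i * w := fun i => by rw [pow_succ, pow_mul]
  simp only [e0, ← Finset.sum_mul]
  by_cases h : w ^ 2 = 1
  · simp only [h, one_pow, Finset.sum_const, Finset.card_range, nsmul_eq_mul, mul_one]
    rcases sq_eq_one_iff.1 h with rfl | rfl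
    · exact ⟨1, by simp⟩
    · exact ⟨-1, by simp⟩
  · exact ⟨0, by rw [geom_sum_eq h, ← pow_mul, hw, sub_self, zero_div, zero_mul]; simp⟩

namespace Cfg

variable (K : Cfg G) {M : Ideal AlgInt} {χ : IrrCharacter G}

theorem chi_mod (hM : IsPModular 2 M) (hχ : χ ∈ principalBlock M G) (m : ℕ) :
    (χ : G → ℂ) (K.a * K.gen ^ m) = (χ : G → ℂ) (K.a * K.gen ^ (m % K.n)) := by
  conv_lhs => rw [← Nat.div_add_mod m K.n, pow_add, pow_mul]
  exact K.chi_a_mul hM hχ (pow_mem K.gen_pow_mem _) _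

/-- The Fourier coefficients of the values at `a q^l` are rational integers. -/
theorem exists_fourier (hM : IsPModular 2 M) (hn : K.n = 5) (hχ : χ ∈ principalBlock M G)
    {z : ℂ} (hz : z ^ 5 = 1) :
    ∃ e : ℤ, 5 * (e : ℂ) = ∑ l : Fin 5, (χ : G → ℂ) (K.a * K.gen ^ (l : ℕ)) * z ^ (l : ℕ) := by
  set N := orderOf K.gen with hN
  obtain ⟨L, hL⟩ : K.n ∣ N := K.gen_pow_mem_O_iff.1 (by rw [hN, pow_orderOf_eq_one]; exact one_mem _)
  rw [hn] at hL
  have hcomm : Commute K.a K.gen := (K.a_comm (K.Q_le K.gen_mem)).symm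
  have hord : (K.a * K.gen) ^ (2 * N) = 1 := by
    rw [hcomm.mul_pow, pow_mul, pow_two, K.a_mul_self, one_pow, one_mul, mul_comm, pow_mul, hN,
      pow_orderOf_eq_one, one_pow]
  obtain ⟨k, μ, hμ, hval⟩ := exists_eigen_pow χ (K.a * K.gen)
  have hμN : ∀ i, (μ i * z) ^ (2 * N) = 1 := fun i => by
    obtain ⟨c, hc⟩ := orderOf_dvd_of_pow_eq_one hord
    rw [mul_pow, hc, pow_mul (μ i), hμ i, one_pow, one_mul, ← hc, hL,
      show 2 * (5 * L) = 5 * (2 * L) by ring, pow_mul, hz, one_pow]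
  choose e he using fun i => exists_int_sum_odd_pow (μ i * z) (hμN i)
  set F : ℕ → ℂ := fun i => (χ : G → ℂ) (K.a * K.gen ^ (2 * i + 1)) * z ^ (2 * i + 1) with hF
  have h1 : ∑ i ∈ Finset.range N, F i = N * ((∑ i, e i : ℤ) : ℂ) := by
    push_cast
    rw [Finset.mul_sum, ← Finset.sum_congr rfl fun i _ => he i]
    rw [Finset.sum_comm]
    refine Finset.sum_congr rfl fun i _ => ?_
    simp only [hF, mul_pow, ← Finset.sum_mul]
    rw [← hval, hcomm.mul_pow, pow_succ' K.a, pow_mul, pow_two, K.a_mul_self, one_pow, mul_one]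
  have hper : ∀ i j, F (5 * j + i) = F i := by
    intro i j
    simp only [hF]
    rw [K.chi_mod hM hχ, hn, K.chi_mod hM hχ (2 * i + 1), hn,
      show (2 * (5 * j + i) + 1) % 5 = (2 * i + 1) % 5 by omega,
      show 2 * (5 * j + i) + 1 = 5 * (2 * j) + (2 * i + 1) by ring, pow_add z, pow_mul z, hz,
      one_pow, one_mul]
  have h2 : ∀ L, ∑ i ∈ Finset.range (5 * L), F i = L * ∑ i ∈ Finset.range 5, F i := by
    intro L
    induction L with
    | zero => simp
    | succ L ih =>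
      rw [Nat.mul_succ, Finset.sum_range_add, ih, Finset.sum_congr rfl fun i _ => hper i L]
      push_cast; ring
  have hL0 : (L : ℂ) ≠ 0 := Nat.cast_ne_zero.2 fun h => (orderOf_pos K.gen).ne'
    (by rw [← hN, hL, h, mul_zero])
  refine ⟨∑ i, e i, mul_left_cancel₀ hL0 ?_⟩
  rw [hL, h2] at h1
  push_cast at h1 ⊢
  rw [show (L : ℂ) * (5 * ∑ i, (e i : ℂ)) = 5 * L * ∑ i, (e i : ℂ) by ring, ← h1]
  congr 1
  have e5 : z ^ 7 = z ^ 2 ∧ z ^ 9 = z ^ 4 := by
    exact ⟨by rw [show 7 = 5 + 2 from rfl, pow_add, hz, one_mul], by rw [show 9 = 5 + 4 from rfl, pow_add, hz, one_mul]⟩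
  simp only [hF, Finset.sum_range_succ, Finset.sum_range_zero, Fin.sum_univ_five, zero_add,
    mul_zero, mul_one]
  norm_num
  rw [K.chi_mod hM hχ 5, K.chi_mod hM hχ 7, K.chi_mod hM hχ 9, hn, hz, e5.1, e5.2]
  norm_num
  ring

/-- The sums of `χ` over the sections of `a`. -/
def NonZero (χ : IrrCharacter G) : Prop :=
  (∃ m < K.n, ∑ g ∈ K.sA m, (χ : G → ℂ) g ≠ 0) ∨ ∑ g ∈ K.sW, (χ : G → ℂ) g ≠ 0

/-- The non-trivial characters with a non-zero sum over some section. -/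
abbrev X : Type u := {χ : IrrCharacter G // χ ≠ BlockBasic.trivialIrr ∧ K.NonZero χ}

theorem X_mem (hM : IsPModular 2 M) (x : K.X) : x.1 ∈ principalBlock M G := by
  by_contra h
  rcases x.2.2 with ⟨m, hm, hne⟩ | hne
  exacts [hne (K.sum_sA_eq_zero hM h hm), hne (K.sum_sW_eq_zero hM h)]

theorem sum_X [Fintype K.X] (F : IrrCharacter G → ℂ) (hF : ∀ χ, ¬ K.NonZero χ → F χ = 0) :
    ∑ x : K.X, F x.1 = ∑ χ, F χ - F BlockBasic.trivialIrr := by
  rw [← Finset.sum_subtype (Finset.univ.filter fun χ : IrrCharacter G =>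
      χ ≠ BlockBasic.trivialIrr ∧ K.NonZero χ) (by simp) F, ← Finset.add_sum_erase Finset.univ F
      (Finset.mem_univ BlockBasic.trivialIrr), add_sub_cancel_left]
  refine Finset.sum_subset (fun χ hχ => ?_) fun χ hχ hn => hF χ fun h => hn ?_
  · exact Finset.mem_erase.2 ⟨(Finset.mem_filter.1 hχ).2.1, Finset.mem_univ _⟩
  · exact Finset.mem_filter.2 ⟨Finset.mem_univ _, (Finset.mem_erase.1 hχ).1, h⟩

/-- A stable set seen by no character outside `X` other than the trivial one. -/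
def Seen (s : Finset G) : Prop :=
  K.Stable s ∧ s.Nonempty ∧ ∀ χ : IrrCharacter G, ¬ K.NonZero χ → ∑ g ∈ s, (χ : G → ℂ) g = 0

theorem seen_sA {m : ℕ} (hm : m < K.n) : K.Seen (K.sA m) := by
  refine ⟨K.stable_sA m, Finset.card_pos.1 ?_, fun χ h => ?_⟩
  · rcases Nat.eq_zero_or_pos m with rfl | h
    · rw [K.card_sA_zero]; exact Nat.card_pos
    · rw [K.card_sA h hm]; exact Nat.mul_pos (by norm_num) Nat.card_pos
  · by_contra hne; exact h (Or.inl ⟨m, hm, hne⟩)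

theorem seen_sW : K.Seen K.sW := by
  refine ⟨K.stable_sW, Finset.card_pos.1 ?_, fun χ h => ?_⟩
  · rw [K.card_sW]; exact Nat.mul_pos (by norm_num) Nat.card_pos
  · by_contra hne; exact h (Or.inr hne)

theorem trivial_sum (s : Finset G) :
    ∑ g ∈ s, ((BlockBasic.trivialIrr : IrrCharacter G) : G → ℂ) g = s.card := by
  simp [BlockBasic.trivialIrr]

variable [Fintype K.X]

theorem sumX_mul_conj {s s' : Finset G} (hs : K.Seen s) (hs' : K.Seen s') {v v' : K.X → ℂ}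
    (hv : ∀ x : K.X, ∑ g ∈ s, (x.1 : G → ℂ) g = s.card * v x)
    (hv' : ∀ x : K.X, ∑ g ∈ s', (x.1 : G → ℂ) g = s'.card * v' x) :
    ∑ x, v x * conj (v' x) =
      Nat.card K.cA * (s ∩ s').card / (s.card * s'.card) - 1 := by
  have h := K.sum_X (fun χ => (∑ g ∈ s, (χ : G → ℂ) g) * conj (∑ g ∈ s', (χ : G → ℂ) g))
    fun χ hχ => by rw [hs.2.2 χ hχ, zero_mul]
  rw [K.sum_mul_conj_sum hs.1 hs'.1, trivial_sum, trivial_sum, map_natCast] at h
  simp only [hv, hv', map_mul, map_natCast] at h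
  have h0 : (s.card : ℂ) * s'.card ≠ 0 := mul_ne_zero
    (Nat.cast_ne_zero.2 hs.2.1.card_pos.ne') (Nat.cast_ne_zero.2 hs'.2.1.card_pos.ne')
  rw [div_sub_one h0, ← h, eq_div_iff h0, Finset.sum_mul]
  exact Finset.sum_congr rfl fun x _ => by ring

theorem sumX_degree {s : Finset G} (hs : K.Seen s) {v : K.X → ℂ}
    (hv : ∀ x : K.X, ∑ g ∈ s, (x.1 : G → ℂ) g = s.card * v x) :
    ∑ x : K.X, (x.1 : G → ℂ) 1 * v x = -1 := by
  have h := K.sum_X (fun χ => (χ : G → ℂ) 1 * ∑ g ∈ s, (χ : G → ℂ) g)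
    fun χ hχ => by rw [hs.2.2 χ hχ, mul_zero]
  rw [K.sum_degree_mul_sum hs.1, trivial_sum,
    show ((BlockBasic.trivialIrr : IrrCharacter G) : G → ℂ) 1 = 1 from rfl] at h
  simp only [hv] at h
  refine mul_left_cancel₀ (Nat.cast_ne_zero.2 hs.2.1.card_pos.ne' : (s.card : ℂ) ≠ 0) ?_
  rw [Finset.mul_sum, Finset.sum_congr rfl fun x _ => mul_left_comm (s.card : ℂ) _ _, h]
  ring

theorem sumX_pairs {s : Finset G} (hs : K.Seen s)
    (hp : ∀ g ∈ s, ¬ ∃ u v : G, IsConj u K.a ∧ IsConj v K.a ∧ u * v = g) {v : K.X → ℂ}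
    (hv : ∀ x : K.X, ∑ g ∈ s, (x.1 : G → ℂ) g = s.card * v x) :
    ∑ x : K.X, (x.1 : G → ℂ) K.a ^ 2 * v x / (x.1 : G → ℂ) 1 = -1 := by
  have h := K.sum_X (fun χ => (χ : G → ℂ) K.a * (χ : G → ℂ) K.a * (∑ g ∈ s, (χ : G → ℂ) g) /
    (χ : G → ℂ) 1) fun χ hχ => by rw [hs.2.2 χ hχ, mul_zero, zero_div]
  rw [K.sum_pairs_mul_sum hp, trivial_sum,
    show ((BlockBasic.trivialIrr : IrrCharacter G) : G → ℂ) 1 = 1 from rfl,
    show ((BlockBasic.trivialIrr : IrrCharacter G) : G → ℂ) K.a = 1 from rfl] at h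
  simp only [hv] at h
  refine mul_left_cancel₀ (Nat.cast_ne_zero.2 hs.2.1.card_pos.ne' : (s.card : ℂ) ≠ 0) ?_
  rw [Finset.mul_sum]
  refine (Finset.sum_congr rfl fun x _ => ?_).trans (h.trans (by ring))
  ring

theorem galIrr_trivial (σ : ℂ ≃+* ℂ) :
    CycOne.galIrr σ (BlockBasic.trivialIrr : IrrCharacter G) = BlockBasic.trivialIrr :=
  Subtype.ext (funext fun _ => map_one σ)

theorem gal_X_mem (σ : ℂ ≃+* ℂ) (x : K.X) :
    CycOne.galIrr σ x.1 ≠ BlockBasic.trivialIrr ∧ K.NonZero (CycOne.galIrr σ x.1) := by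
  refine ⟨fun h => x.2.1 ?_, ?_⟩
  · rw [← CycOne.galIrr_symm_galIrr σ x.1, h, galIrr_trivial]
  · rcases x.2.2 with ⟨m, hm, h⟩ | h
    · refine Or.inl ⟨m, hm, ?_⟩
      simp only [CycOne.galIrr_apply, ← map_sum]
      exact (map_ne_zero_iff σ σ.injective).2 h
    · refine Or.inr ?_
      simp only [CycOne.galIrr_apply, ← map_sum]
      exact (map_ne_zero_iff σ σ.injective).2 h

/-- The permutation of `X` by a field automorphism. -/
noncomputable def galX (σ : ℂ ≃+* ℂ) : Equiv.Perm K.X :=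
  Equiv.ofBijective (fun x => ⟨CycOne.galIrr σ x.1, K.gal_X_mem σ x⟩)
    (Finite.injective_iff_bijective.1 fun x y h => Subtype.ext (by
      rw [← CycOne.galIrr_symm_galIrr σ x.1, ← CycOne.galIrr_symm_galIrr σ y.1]
      exact congrArg (CycOne.galIrr σ.symm) (congrArg Subtype.val h)))

theorem galX_apply (σ : ℂ ≃+* ℂ) (x : K.X) (g : G) :
    ((K.galX σ x).1 : G → ℂ) g = σ ((x.1 : G → ℂ) g) := rfl

end Cfg

end Cfsg.Agent.H53.U34
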