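import Cfsg.Agent.H53.U34.Chars.Cols
import Cfsg.Agent.H60.U34.One
import Cfsg.Agent.H60.U34.Five
import Cfsg.Agent.H63.U34.Degree

/-!
# The core of the centralizer of an involution is trivial
-/

set_option autoImplicit false
set_option linter.unusedSectionVars false

open scoped ComplexConjugate Classical

namespace Cfsg.Agent.H53.U34.Cfg

open Subgroup CharBasic

universe u

variable {G : Type u} [Group G] [Fintype G] (K : Cfg G) {M : Ideal AlgInt} {χ : IrrCharacter G}

theorem card_cA : Nat.card K.cA = Nat.card K.O * (64 * K.n) := K.card_centralizer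

theorem conj_wSum (hχ : IsCharacter G χ) : conj (K.wSum χ) = K.wSum χ := by
  have hmem : ∀ {x : G}, x ∈ K.wSet → x⁻¹ ∈ K.wSet := fun {x} hx => by
    obtain ⟨hS, ha⟩ := K.mem_wSet.1 hx
    exact K.mem_wSet.2 ⟨inv_mem hS, by rw [← mul_inv_rev, ha, H26.inv_eq_self_of_orderOf_two K.orderOf_a]⟩
  rw [wSum, map_sum]
  refine Finset.sum_bij (fun x _ => x⁻¹) (fun x hx => hmem hx) (fun x _ y _ h => inv_injective h)
    (fun x hx => ⟨x⁻¹, hmem hx, inv_inv x⟩) fun x _ => ?_
  rw [IsChar.inv_apply hχ]

theorem inter_card_self (s : Finset G) : ((s ∩ s).card : ℂ) = s.card := by rw [Finset.inter_self]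

variable [IsSimpleGroup G]

theorem false_of_core_ne_bot (hM : IsPModular 2 M) (hO : K.O ≠ ⊥) : False := by
  cases nonempty_fintype K.X
  have hcO : (Nat.card K.O : ℂ) ≠ 0 := Nat.cast_ne_zero.2 Nat.card_pos.ne'
  choose d A N hd hA hN hN1 hbd using fun x : K.X => K.degree_facts hM hO (K.X_mem hM x) x.2.1
  set α : K.X → ℕ → ℂ := fun x m => (x.1 : G → ℂ) (K.a * K.gen ^ m) with hα
  set w : K.X → ℂ := fun x => K.wSum x.1 / 20 with hw
  have hvA : ∀ (m : ℕ) (x : K.X), ∑ g ∈ K.sA m, (x.1 : G → ℂ) g = (K.sA m).card * α x m :=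
    fun m x => K.sum_sA_of_mem hM (K.X_mem hM x) m
  have hvW : ∀ x : K.X, ∑ g ∈ K.sW, (x.1 : G → ℂ) g = K.sW.card * w x := fun x => by
    rw [K.sum_sW_of_mem hM (K.X_mem hM x), K.card_sW]
    simp only [hw]
    push_cast
    ring
  have hα0 : ∀ x, α x 0 = A x := fun x => by rw [← hA x]; simp [hα]
  have hn0 := K.n_pos
  -- column relations at `a` and at the elements of order four
  have hA2 : ∑ x, (A x : ℂ) * conj (A x : ℂ) = 64 * K.n - 1 := by
    have h := K.sumX_mul_conj (K.seen_sA hn0) (K.seen_sA hn0) (hvA 0) (hvA 0)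
    simp only [hα0, inter_card_self, K.card_sA_zero, K.card_cA] at h
    rw [h]; push_cast; field_simp
  have hW2 : ∑ x, w x * conj (w x) = 16 * K.n / 5 - 1 := by
    have h := K.sumX_mul_conj K.seen_sW K.seen_sW hvW hvW
    simp only [inter_card_self, K.card_sW, K.card_cA] at h
    rw [h]; push_cast; field_simp; ring
  have hWp : ∑ x, (A x : ℂ) ^ 2 * w x / (d x : ℂ) = -1 := by
    have h := K.sumX_pairs K.seen_sW (fun g hg => K.no_pair_TW (K.mem_sW.1 hg)) hvW
    simpa only [hd, hA] using h
  rcases K.n_eq with hn | hn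
  · have hre : ∀ x, ((w x).re : ℂ) = w x := fun x => by
      refine Complex.conj_eq_iff_re.1 ?_
      simp only [hw, map_div₀, K.conj_wSum (IsIrr.isCharacter x.1.2), map_ofNat]
    refine H60.U34.false_of_one Finset.univ (fun x => (A x : ℝ)) (fun x => (w x).re) (fun x => (d x : ℝ))
      ?_ ?_ ?_ fun x _ => ⟨by exact_mod_cast hbd x, ?_⟩
    · apply Complex.ofReal_injective
      rw [hn] at hA2
      push_cast
      simp only [map_intCast, Nat.cast_one] at hA2
      simp only [pow_two, hA2]; norm_num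
    · apply Complex.ofReal_injective
      rw [hn] at hW2
      push_cast
      rw [Finset.sum_congr rfl fun x _ => show ((w x).re : ℂ) ^ 2 = w x * conj (w x) by
        rw [← hre x, Complex.conj_ofReal, pow_two, Complex.ofReal_re], hW2]
      norm_num
    · apply Complex.ofReal_injective
      push_cast
      simp only [hre]
      rw [← hWp]
      exact Finset.sum_congr rfl fun x _ => by ring
    · have h : (64 : ℝ) * (N x : ℝ) = d x + 3 * A x + 60 * (w x).re := by
        apply Complex.ofReal_injective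
        push_cast
        rw [hre x, hN x]
        simp only [hw]; ring
      have : (1 : ℝ) ≤ (N x : ℝ) := by exact_mod_cast hN1 x
      linarith
  · obtain ⟨ζ, hζ⟩ : ∃ ζ : ℂ, IsPrimitiveRoot ζ 5 := ⟨_, Complex.isPrimitiveRoot_exp 5 (by norm_num)⟩
    have hz5 : ∀ k : ℕ, (ζ⁻¹ ^ k) ^ 5 = 1 := fun k => by
      rw [← pow_mul, mul_comm, pow_mul, inv_pow, hζ.pow_eq_one, inv_one, one_pow]
    choose C hC _ h16 using fun x : K.X => K.order_four_facts hM hn (K.X_mem hM x)
    choose D hD using fun (x : K.X) (k : Fin 5) =>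
      K.exists_fourier hM hn (K.X_mem hM x) (hz5 (k : ℕ))
    obtain ⟨σ, hσ⟩ := H43.exists_aut_pow (n := 5) (k := 3) (by norm_num) (by norm_num)
    have hwC : ∀ x, w x = C x := fun x => by simp only [hw, hC x]; ring
    simp only [hwC] at hW2 hWp hvW
    have hlt : ∀ i : Fin 5, (i : ℕ) < K.n := fun i => i.2.trans_eq hn.symm
    refine H60.U34.false_of_five ζ hζ (fun x l => α x (l : ℕ)) A C d N D (K.galX σ)
      hα0 (fun x k => ?_) (fun i j => ?_) (fun i => ?_) ?_ (fun i => ?_) ?_ (fun i hi => ?_) hWp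
      (fun x => ?_) hN1 (fun x => h16 x (d x) (A x) (hd x) (hA x)) hbd (fun x k => ?_) (fun x => ?_)
      (fun x => ?_) fun x => ?_
    · rw [hD x k]
      exact Finset.sum_congr rfl fun l _ => by rw [← pow_mul]
    · show ∑ x, α x i * conj (α x j) = _
      rw [K.sumX_mul_conj (K.seen_sA (hlt i)) (K.seen_sA (hlt j)) (hvA i) (hvA j)]
      by_cases h : i = j
      · subst h
        rw [if_pos rfl, inter_card_self, K.card_cA, hn]
        by_cases h0 : i = 0
        · subst h0
          rw [if_pos rfl, Fin.val_zero, K.card_sA_zero]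
          push_cast; field_simp
        · rw [if_neg h0, K.card_sA (Nat.pos_of_ne_zero fun e => h0 (Fin.ext e)) (hlt i)]
          push_cast; field_simp; ring
      · have : K.sA i ∩ K.sA j = ∅ := Finset.disjoint_iff_inter_eq_empty.1 (Finset.disjoint_left.2
          fun g h1 h2 => Set.disjoint_left.1 (K.disjoint_TA (hlt i) (hlt j) fun e => h (Fin.ext e))
            (K.mem_sA.1 h1) (K.mem_sA.1 h2))
        rw [this, if_neg h]; simp
    · show ∑ x, α x i * (C x : ℂ) = -1
      have h := K.sumX_mul_conj (K.seen_sA (hlt i)) K.seen_sW (hvA i) hvW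
      have : K.sA i ∩ K.sW = ∅ := Finset.disjoint_iff_inter_eq_empty.1 (Finset.disjoint_left.2
        fun g h1 h2 => Set.disjoint_left.1 (K.disjoint_TA_TW i) (K.mem_sA.1 h1) (K.mem_sW.1 h2))
      rw [this] at h
      simpa using h
    · have h : ((∑ x, C x * C x : ℤ) : ℂ) = ((15 : ℤ) : ℂ) := by
        push_cast
        simp only [map_intCast] at hW2
        rw [hW2, hn]; norm_num
      exact_mod_cast h
    · simpa only [hd] using K.sumX_degree (K.seen_sA (hlt i)) (hvA i)
    · have h := K.sumX_degree K.seen_sW hvW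
      simp only [hd] at h
      exact_mod_cast h
    · have h := K.sumX_pairs (K.seen_sA (hlt i)) (fun g hg => K.no_pair_TA (fun hdv => hi (Fin.ext ?_))
        (K.mem_sA.1 hg)) (hvA i)
      · simpa only [hd, hA] using h
      · exact Nat.eq_zero_of_dvd_of_lt hdv (hlt i)
    · have h : ((64 * N x : ℤ) : ℂ) = ((d x + 3 * A x + 60 * C x : ℤ) : ℂ) := by
        push_cast
        rw [hN x, hC x]; ring
      exact_mod_cast h
    · have h1 : (5 : ℂ) * (D (K.galX σ x) k : ℂ) = 5 * σ (D x (2 * k) : ℂ) := by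
        rw [hD, ← map_ofNat σ 5, ← map_mul, hD, map_sum]
        refine Finset.sum_congr rfl fun l _ => ?_
        rw [map_mul, galX_apply, map_pow σ, hσ _ (hz5 _)]
        congr 1
        rw [← pow_mul, ← pow_mul, ← pow_mul]
        apply pow_eq_pow_of_modEq _ (hz5 1 |> fun h => by rwa [pow_one] at h)
        rw [Fin.val_mul]
        unfold Nat.ModEq
        have := k.2
        have := l.2
        fin_cases k <;> simp <;> omega
      rw [map_intCast] at h1
      exact_mod_cast mul_left_cancel₀ (by norm_num) h1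
    · have h := hA (K.galX σ x)
      rw [galX_apply, hA x, map_intCast] at h
      exact_mod_cast h.symm
    · have h : (20 : ℂ) * (C (K.galX σ x) : ℂ) = 20 * (C x : ℂ) := by
        rw [← hC, wSum]
        simp only [galX_apply]
        rw [← map_sum, ← wSum, hC x, map_mul, map_ofNat, map_intCast]
      exact_mod_cast mul_left_cancel₀ (by norm_num) h
    · have h := hd (K.galX σ x)
      rw [galX_apply, hd x, map_intCast] at h
      exact_mod_cast h.symm

end Cfsg.Agent.H53.U34.Cfg
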