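import Cfsg.Agent.H53.U34.Chars.Vanish

/-!
# The values of a character on the special sections
-/

set_option autoImplicit false
set_option linter.unusedSectionVars false

open scoped Classical

namespace Cfsg.Agent.H53.U34.Cfg

universe u

variable {G : Type u} [Group G] [Fintype G] (K : Cfg G)

/-- The elements of `S` squaring to `a`. -/
noncomputable def wSet : Finset G := Finset.univ.filter (· ∈ K.W K.a)

theorem mem_wSet {x : G} : x ∈ K.wSet ↔ x ∈ K.W K.a := by simp [wSet]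

/-- The sum of a class function over the 20 elements of `S` squaring to `a`. -/
noncomputable def wSum (φ : G → ℂ) : ℂ := ∑ x ∈ K.wSet, φ x

theorem card_wSet : K.wSet.card = 20 := by
  rw [← K.ncard_W K.a_mem_Z K.a_ne_one, Set.ncard_eq_toFinset_card']
  congr 1; ext x; simp [wSet]

variable {M : Ideal AlgInt} {χ : IrrCharacter G}

theorem sum_sA_of_mem (hM : IsPModular 2 M) (hχ : χ ∈ principalBlock M G) (m : ℕ) :
    ∑ g ∈ K.sA m, (χ : G → ℂ) g = (K.sA m).card * (χ : G → ℂ) (K.a * K.gen ^ m) := by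
  rw [Finset.sum_congr rfl (fun g hg => K.chi_TA hM hχ (K.mem_sA.1 hg)), Finset.sum_const,
    nsmul_eq_mul]

theorem sW_eq : K.sW = (K.wSet ×ˢ Finset.univ.filter (· ∈ K.O)).image fun p => p.2 * p.1 := by
  ext g
  simp only [mem_sW, K.TW_eq, Finset.mem_image, Finset.mem_product, Finset.mem_filter,
    Finset.mem_univ, true_and, Set.mem_ofPred_eq, Prod.exists, mem_wSet]
  exact ⟨fun ⟨o, ho, x, hx, e⟩ => ⟨x, o, ⟨hx, ho⟩, e.symm⟩,
    fun ⟨x, o, ⟨hx, ho⟩, e⟩ => ⟨o, ho, x, hx, e.symm⟩⟩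

theorem sum_sW_of_mem (hM : IsPModular 2 M) (hχ : χ ∈ principalBlock M G) :
    ∑ g ∈ K.sW, (χ : G → ℂ) g = Nat.card K.O * K.wSum χ := by
  rw [K.sW_eq, Finset.sum_image, Finset.sum_product, wSum, Finset.mul_sum]
  · refine Finset.sum_congr rfl fun x hx => ?_
    obtain ⟨hxS, hxa⟩ := K.mem_wSet.1 hx
    rw [Finset.sum_congr rfl (g := fun _ => (χ : G → ℂ) x) (fun o ho =>
      K.chi_O_mul hM hχ (Finset.mem_filter.1 ho).2 hxS
        fun h => K.a_ne_one (by rw [← hxa, h, one_mul])),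
      Finset.sum_const, nsmul_eq_mul, Nat.card_eq_fintype_card, Fintype.card_subtype]
  · rintro ⟨x, o⟩ hp ⟨x', o'⟩ hp' e
    simp only [Finset.mem_coe, Finset.mem_product, Finset.mem_filter, Finset.mem_univ, true_and,
      mem_wSet] at hp hp'
    obtain ⟨e1, e2⟩ := K.mul_inj_OS hp.2 hp'.2 hp.1.1 hp'.1.1 e
    rw [e1, e2]

end Cfsg.Agent.H53.U34.Cfg
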