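import Cfsg.Agent.Cores.PrincipalSection
import Cfsg.Agent.H25.BrauerSuzukiLarge
import Cfsg.Agent.H83.ClassConst
import Cfsg.Agent.CharBasic.Complete

/-!
# Sections of the principal block: constancy, vanishing, isometry, involution pairs
-/

set_option autoImplicit false

open scoped ComplexConjugate Classical

namespace Cfsg.Agent.H53.U34.Chars

open CharBasic BlockBasic CharInduce

universe u

variable {G : Type u} [Group G] [Fintype G] {p : ℕ} [Fact p.Prime] {M : Ideal AlgInt} {x : G} {e : ℕ}

/-- On the section of a `p`-element the principal block only sees the principal block of the centralizer. -/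
theorem apply_section_eq (hM : IsPModular p M) (hx : orderOf x = p ^ e) {ζ : IrrCharacter G}
    (hζ : ζ ∈ principalBlock M G) {y z : Subgroup.centralizer ({x} : Set G)} (hy : ¬ p ∣ orderOf y)
    (hz : ¬ p ∣ orderOf z)
    (h : ∀ ψ ∈ principalBlock M (Subgroup.centralizer ({x} : Set G)),
      ((ψ : IrrCharacter (Subgroup.centralizer ({x} : Set G))) : _ → ℂ) y = (ψ : _ → ℂ) z) :
    (ζ : G → ℂ) (x * (y : G)) = (ζ : G → ℂ) (x * (z : G)) := by
  cases nonempty_fintype (Subgroup.centralizer ({x} : Set G))
  have e1 := Cores.principal_part_eq hM hx ζ y hy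
  have e2 := Cores.principal_part_eq hM hx ζ z hz
  rw [if_pos hζ] at e1 e2
  rw [← e1, ← e2]
  exact Finset.sum_congr rfl fun ψ hψ => by rw [h ψ (Finset.mem_filter.1 hψ).2]

/-- Outside the principal block the section is orthogonal to the principal block of the centralizer. -/
theorem sum_section_eq_zero (hM : IsPModular p M) (hx : orderOf x = p ^ e) {ζ : IrrCharacter G}
    (hζ : ζ ∉ principalBlock M G) [Fintype (Subgroup.centralizer ({x} : Set G))]
    {φ : IrrCharacter (Subgroup.centralizer ({x} : Set G))}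
    (hφ : φ ∈ principalBlock M (Subgroup.centralizer ({x} : Set G))) :
    ∑ y ∈ Finset.univ.filter (fun y : Subgroup.centralizer ({x} : Set G) => ¬ p ∣ orderOf y),
      (ζ : G → ℂ) (x * (y : G)) * conj ((φ : _ → ℂ) y) = 0 := by
  set θ : (Subgroup.centralizer ({x} : Set G)) → ℂ := fun c => (ζ : G → ℂ) (x * (c : G)) with hθ
  have hθc : IsClassFunction (Subgroup.centralizer ({x} : Set G)) θ := Cores.isClassFunction_shift (IsIrr.isClassFunction ζ.2)
  set R := Finset.univ.filter (fun y : (Subgroup.centralizer ({x} : Set G)) => ¬ p ∣ orderOf y)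
  calc ∑ y ∈ R, θ y * conj ((φ : (Subgroup.centralizer ({x} : Set G)) → ℂ) y)
      = ∑ ψ : IrrCharacter (Subgroup.centralizer ({x} : Set G)), classInner θ (ψ : (Subgroup.centralizer ({x} : Set G)) → ℂ) * ∑ y ∈ R, (ψ : (Subgroup.centralizer ({x} : Set G)) → ℂ) y * conj ((φ : (Subgroup.centralizer ({x} : Set G)) → ℂ) y) := by
        conv_lhs => rw [classFunction_expansion hθc]
        simp only [Finset.sum_apply, Pi.smul_apply, smul_eq_mul, Finset.sum_mul, Finset.mul_sum, mul_assoc]
        exact Finset.sum_comm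
    _ = ∑ ψ : IrrCharacter (Subgroup.centralizer ({x} : Set G)) with ψ ∈ principalBlock M (Subgroup.centralizer ({x} : Set G)),
          classInner θ (ψ : (Subgroup.centralizer ({x} : Set G)) → ℂ) * ∑ y ∈ R, (ψ : (Subgroup.centralizer ({x} : Set G)) → ℂ) y * conj ((φ : (Subgroup.centralizer ({x} : Set G)) → ℂ) y) := by
        rw [Finset.sum_filter]
        refine Finset.sum_congr rfl fun ψ _ => ?_
        split_ifs with hψ
        · rfl
        · have h0 := sum_regular_eq_zero hM (isPBlock_blockOf M ψ) (self_mem_blockOf hM ψ) (ψ := φ)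
            (fun h => hψ (sameBlock_trans hM hφ (sameBlock_symm h)))
          rw [show (∑ y ∈ R, (ψ : (Subgroup.centralizer ({x} : Set G)) → ℂ) y * conj ((φ : (Subgroup.centralizer ({x} : Set G)) → ℂ) y)) = 0 from ?_, mul_zero]
          convert h0
    _ = ∑ y ∈ R, (∑ ψ : IrrCharacter (Subgroup.centralizer ({x} : Set G)) with ψ ∈ principalBlock M (Subgroup.centralizer ({x} : Set G)),
          classInner θ (ψ : (Subgroup.centralizer ({x} : Set G)) → ℂ) * (ψ : (Subgroup.centralizer ({x} : Set G)) → ℂ) y) * conj ((φ : (Subgroup.centralizer ({x} : Set G)) → ℂ) y) := by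
        simp only [Finset.mul_sum, Finset.sum_mul, mul_assoc]
        exact Finset.sum_comm
    _ = 0 := Finset.sum_eq_zero fun y hy => by
        rw [Cores.principal_part_eq hM hx ζ y (Finset.mem_filter.1 hy).2, if_neg hζ, zero_mul]

omit [Fact p.Prime] in
/-- Induction is an isometry on functions supported where conjugation stays inside the subgroup. -/
theorem classInner_indFun_pair (H : Subgroup G) [Fintype H] (ψ θ : H → ℂ) (hθ : IsClassFunction H θ)
    (hTI : ∀ (g : G) (d d' : H), ψ d ≠ 0 → θ d' ≠ 0 → g * d * g⁻¹ = d' → g ∈ H) :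
    classInner (indFun H ψ) (indFun H θ) = classInner ψ θ := by
  rw [classInner_indFun_left H ψ _ (isClassFunction_indFun H θ), classInner_def, classInner_def]
  congr 1
  refine Finset.sum_congr rfl fun d _ => ?_
  by_cases hd : ψ d = 0
  · simp [hd]
  congr 2
  have h : ∀ y : G, extendByZero H θ (y⁻¹ * d * y) = if y ∈ H then θ d else 0 := by
    intro y
    split_ifs with hy
    · have := extendByZero_conj hθ (H.inv_mem hy) (d : G)
      rwa [inv_inv, extendByZero_coe] at this
    · by_cases hz : y⁻¹ * (d : G) * y ∈ H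
      · rw [extendByZero_of_mem _ hz]
        by_contra hne
        exact hy (inv_mem_iff.mp (hTI y⁻¹ d ⟨_, hz⟩ hd hne (by simp)))
      · rw [extendByZero_of_not_mem _ hz]
  rw [indFun_apply]
  simp only [h]
  rw [← Finset.sum_filter, Finset.sum_const, nsmul_eq_mul]
  have hc : (Finset.univ.filter fun y : G => y ∈ H).card = Nat.card H := by
    rw [Nat.card_eq_fintype_card, Fintype.card_subtype]
  rw [hc, ← mul_assoc, inv_mul_cancel₀ (card_ne_zero_complex _), one_mul]

omit [Fact p.Prime] in
/-- If `g` is not a product of two conjugates of the involution `a`, then `∑ χ(a)² χ(g) / χ(1) = 0`. -/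
theorem sum_pairs_eq_zero {a g : G} (ha : orderOf a = 2)
    (h : ∀ u v : G, IsConj a u → IsConj a v → u * v ≠ g) :
    ∑ χ : IrrCharacter G, (χ : G → ℂ) a * (χ : G → ℂ) a * (χ : G → ℂ) g / (χ : G → ℂ) 1 = 0 := by
  have h1 := H83.card_pairs_mul_card (G := G) a a g
  have h0 : Nat.card {u : G // IsConj a u ∧ IsConj a (u⁻¹ * g)} = 0 := by
    rw [Nat.card_eq_zero]
    exact Or.inl ⟨fun ⟨u, hu, hv⟩ => h u _ hu hv (by group)⟩
  have hreal : ∀ χ : IrrCharacter G, conj ((χ : G → ℂ) a) = (χ : G → ℂ) a := fun χ => by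
    rw [← IsChar.inv_apply (IsIrr.isCharacter χ.2) a, inv_eq_of_mul_eq_one_right (by rw [← pow_two, ← ha, pow_orderOf_eq_one] : a * a = 1)]
  simp only [h0, Nat.cast_zero, mul_zero, hreal] at h1
  rcases mul_eq_zero.1 h1.symm with h2 | h2
  · exact absurd h2 (mul_ne_zero (Nat.cast_ne_zero.2 Subgroup.index_ne_zero_of_finite)
      (Nat.cast_ne_zero.2 Subgroup.index_ne_zero_of_finite))
  · exact h2

end Cfsg.Agent.H53.U34.Chars
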