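import Cfsg.Agent.H53.U34.Chars.Data

/-!
# Orthogonality, degrees and pairs for the sums over the sections, inside the principal block
-/

set_option autoImplicit false
set_option linter.unusedSectionVars false

open scoped ComplexConjugate Classical

namespace Cfsg.Agent.H53.U34.Cfg

open Subgroup CharBasic CharInduce

universe u

variable {G : Type u} [Group G] [Fintype G] (K : Cfg G)

/-- A finset inside `T`, stable under `C(a)`. -/
def Stable (s : Finset G) : Prop :=
  (∀ g ∈ s, g ∈ K.T) ∧ ∀ h ∈ K.cA, ∀ g ∈ s, h * g * h⁻¹ ∈ s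

theorem T_subset_cA {g : G} (hg : g ∈ K.T) : g ∈ K.cA := by
  rcases hg with h | ⟨m, h⟩
  exacts [K.TW_subset_centralizer h, K.TA_subset_centralizer m h]

theorem stable_sA (m : ℕ) : K.Stable (K.sA m) :=
  ⟨fun _ hg => Or.inr ⟨m, K.mem_sA.1 hg⟩, fun _ hh _ hg => K.mem_sA.2 (K.conj_mem_TA hh (K.mem_sA.1 hg))⟩

theorem stable_sW : K.Stable K.sW :=
  ⟨fun _ hg => Or.inl (K.mem_sW.1 hg), fun _ hh _ hg => K.mem_sW.2 (K.conj_mem_TW hh (K.mem_sW.1 hg))⟩

theorem one_not_mem {s : Finset G} (hs : K.Stable s) : (1 : G) ∉ s := fun h => by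
  obtain ⟨k, hk⟩ := mem_zpowers_iff.1 (K.a_mem_zpowers_of_mem_T (hs.1 _ h))
  exact K.a_ne_one (by rw [← hk, one_zpow])

/-- The indicator of `s` on `C(a)`. -/
noncomputable def ind (s : Finset G) : K.cA → ℂ := fun y => if (y : G) ∈ s then 1 else 0

theorem isClassFunction_ind {s : Finset G} (hs : K.Stable s) :
    IsClassFunction K.cA (K.ind s) := by
  intro y h
  simp only [ind, coe_mul, coe_inv]
  refine if_congr ⟨fun hm => ?_, fun hm => hs.2 _ h.2 _ hm⟩ rfl rfl
  have := hs.2 _ (inv_mem h.2) _ hm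
  simpa [mul_assoc] using this

theorem sum_subtype_cA [Fintype K.cA] {s : Finset G} (hs : K.Stable s) (F : G → ℂ) :
    ∑ y : K.cA, K.ind s y * F y = ∑ g ∈ s, F g := by
  simp only [ind, ite_mul, one_mul, zero_mul]
  rw [← Finset.sum_filter]
  exact Finset.sum_bij (fun y _ => (y : G)) (fun y hy => (Finset.mem_filter.1 hy).2)
    (fun y _ y' _ h => Subtype.ext h)
    (fun g hg => ⟨⟨g, K.T_subset_cA (hs.1 g hg)⟩, Finset.mem_filter.2 ⟨Finset.mem_univ _, hg⟩, rfl⟩)
    (fun _ _ => rfl)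

/-- Orthogonality of sums over stable subsets of the sections. -/
theorem sum_mul_conj_sum {s s' : Finset G} (hs : K.Stable s) (hs' : K.Stable s') :
    ∑ χ : IrrCharacter G, (∑ g ∈ s, (χ : G → ℂ) g) * conj (∑ g ∈ s', (χ : G → ℂ) g) =
      Nat.card K.cA * (s ∩ s').card := by
  cases nonempty_fintype K.cA
  have hci := K.isClassFunction_ind hs
  have hci' := K.isClassFunction_ind hs'
  have hne : ∀ {t : Finset G} {y : K.cA}, K.ind t y ≠ 0 → (y : G) ∈ t := fun {t y} h => by
    by_contra hn; exact h (if_neg hn)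
  have hiso := Chars.classInner_indFun_pair K.cA (K.ind s') (K.ind s) hci fun g d d' hd hd' e =>
    K.T_ti (hs'.1 _ (hne hd)) (e ▸ hs.1 _ (hne hd'))
  rw [classInner_eq_sum (isClassFunction_indFun K.cA (K.ind s'))] at hiso
  have hcoef : ∀ (t : Finset G), K.Stable t → ∀ χ : IrrCharacter G,
      classInner (indFun K.cA (K.ind t)) (χ : G → ℂ) =
        (Nat.card K.cA : ℂ)⁻¹ * ∑ g ∈ t, conj ((χ : G → ℂ) g) := by
    intro t ht χ
    rw [classInner_indFun_left K.cA _ _ (IsIrr.isClassFunction χ.2), classInner_def,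
      ← K.sum_subtype_cA ht]
  have hrhs : classInner (K.ind s') (K.ind s) = (Nat.card K.cA : ℂ)⁻¹ * (s ∩ s').card := by
    rw [classInner_def, show (∑ y : K.cA, K.ind s' y * conj (K.ind s y)) = ∑ g ∈ s', conj (if g ∈ s then (1 : ℂ) else 0) from K.sum_subtype_cA hs' fun g => conj (if g ∈ s then (1 : ℂ) else 0),
      Finset.inter_comm]
    congr 1
    simp [apply_ite conj]
  rw [hrhs, Finset.sum_congr rfl fun χ _ => by rw [hcoef s' hs', hcoef s hs]] at hiso
  simp only [map_mul, map_inv₀, map_natCast, map_sum, Complex.conj_conj] at hiso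
  have hn : (Nat.card K.cA : ℂ) ≠ 0 := Nat.cast_ne_zero.2 Nat.card_pos.ne'
  have h := congrArg (fun z => (Nat.card K.cA : ℂ) * (Nat.card K.cA : ℂ) * z) hiso
  simp only [Finset.mul_sum (a := (Nat.card K.cA : ℂ) * (Nat.card K.cA : ℂ))] at h
  refine Eq.trans (Finset.sum_congr rfl fun χ _ => ?_) (h.trans ?_)
  · rw [map_sum]; field_simp
  · field_simp

/-- Degrees are orthogonal to sums over the sections. -/
theorem sum_degree_mul_sum {s : Finset G} (hs : K.Stable s) :
    ∑ χ : IrrCharacter G, (χ : G → ℂ) 1 * ∑ g ∈ s, (χ : G → ℂ) g = 0 := by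
  simp only [Finset.mul_sum]
  rw [Finset.sum_comm]
  refine Finset.sum_eq_zero fun g hg => ?_
  rw [sum_degree_mul_apply, if_neg]
  rintro rfl
  exact K.one_not_mem hs hg

/-- Elements that are not products of two conjugates of `a`. -/
theorem sum_pairs_mul_sum {s : Finset G}
    (hp : ∀ g ∈ s, ¬ ∃ u v : G, IsConj u K.a ∧ IsConj v K.a ∧ u * v = g) :
    ∑ χ : IrrCharacter G, (χ : G → ℂ) K.a * (χ : G → ℂ) K.a *
      (∑ g ∈ s, (χ : G → ℂ) g) / (χ : G → ℂ) 1 = 0 := by
  simp only [Finset.mul_sum, Finset.sum_div]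
  rw [Finset.sum_comm]
  exact Finset.sum_eq_zero fun g hg => Chars.sum_pairs_eq_zero K.orderOf_a fun u v hu hv e =>
    hp g hg ⟨u, v, hu.symm, hv.symm, e⟩

end Cfsg.Agent.H53.U34.Cfg
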