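import Cfsg.Agent.H63.U34.Sections
import Cfsg.Agent.Cores.PCore
import Cfsg.Agent.H85.TwoBlocks
import Mathlib.GroupTheory.SpecificGroups.Cyclic

/-!
# The quotient `C(a) / O S` and the principal block of `C(a)`
-/

set_option autoImplicit false
set_option linter.unusedSectionVars false

open scoped Classical

namespace Cfsg.Agent.H53.U34.Cfg

open Subgroup

universe u

variable {G : Type u} [Group G] [Finite G] (K : Cfg G)

/-- The centraliser of `a`. -/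
abbrev cA : Subgroup G := Subgroup.centralizer ({K.a} : Set G)

theorem S_le' : (K.S : Subgroup G) ≤ K.cA := K.S_le

theorem gen_mem_cA : K.gen ∈ K.cA :=
  (K.cover _).2 ⟨1, one_mem _, 1, one_mem _, K.gen, by rw [K.Q_eq]; exact mem_zpowers _, by simp⟩

/-- The core inside `C(a)`. -/
def O' : Subgroup K.cA := oddCore K.cA

theorem map_O' : K.O'.map K.cA.subtype = K.O := K.O_eq.symm

theorem mem_O' {g : K.cA} : g ∈ K.O' ↔ (g : G) ∈ K.O := by
  rw [← K.map_O']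
  exact ⟨fun h => mem_map_of_mem _ h, fun ⟨y, hy, e⟩ => Subtype.ext (a1 := y) (a2 := g) e ▸ hy⟩

instance normal_O' : K.O'.Normal := Subgroup.sSup_normal _ fun _ h => h.1

/-- `O S` inside `C(a)`. -/
def OSsub : Subgroup K.cA := K.O' ⊔ (K.S : Subgroup G).subgroupOf K.cA

theorem mem_OSsub {g : K.cA} : g ∈ K.OSsub ↔ ∃ o ∈ K.O, ∃ s ∈ (K.S : Subgroup G), (g : G) = o * s := by
  rw [OSsub, mem_sup_of_normal_left]
  constructor
  · rintro ⟨y, hy, z, hz, rfl⟩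
    exact ⟨_, K.mem_O'.1 hy, _, mem_subgroupOf.1 hz, rfl⟩
  · rintro ⟨o, ho, s, hs, e⟩
    exact ⟨⟨o, K.O_le ho⟩, K.mem_O'.2 ho, ⟨s, K.S_le' hs⟩, mem_subgroupOf.2 hs, Subtype.ext e.symm⟩

theorem O'_le_OSsub : K.O' ≤ K.OSsub := le_sup_left

theorem card_O' : Nat.card K.O' = Nat.card K.O := by
  rw [← K.map_O', card_map_of_injective K.cA.subtype_injective]

theorem card_S : Nat.card (K.S : Subgroup G) = 64 := K.shape.card

theorem disjoint_O_S : K.O ⊓ (K.S : Subgroup G) = ⊥ :=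
  (disjoint_of_coprime_natCard (by
    rw [K.card_S, show (64 : ℕ) = 2 ^ 6 from rfl]
    exact (Nat.coprime_two_right.2 K.O_odd).pow_right _)).eq_bot

theorem card_OSsub : Nat.card K.OSsub = Nat.card K.O * 64 := by
  let e : K.O × (K.S : Subgroup G) → K.OSsub := fun p =>
    ⟨⟨p.1 * p.2, mul_mem (K.O_le p.1.2) (K.S_le' p.2.2)⟩, K.mem_OSsub.2 ⟨_, p.1.2, _, p.2.2, rfl⟩⟩
  have he : Function.Bijective e := by
    refine ⟨fun p q h => ?_, fun g => ?_⟩
    · have h' : (p.1 : G) * p.2 = q.1 * q.2 := congrArg (fun x : K.OSsub => ((x : K.cA) : G)) h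
      have hm : (q.1 : G)⁻¹ * p.1 ∈ K.O ⊓ (K.S : Subgroup G) :=
        Subgroup.mem_inf.2 ⟨mul_mem (inv_mem q.1.2) p.1.2, by
          rw [show (q.1 : G)⁻¹ * p.1 = q.2 * (p.2 : G)⁻¹ from
            inv_mul_eq_iff_eq_mul.2 (by rw [← mul_assoc]; exact eq_mul_inv_of_mul_eq h')]
          exact mul_mem q.2.2 (inv_mem p.2.2)⟩
      rw [K.disjoint_O_S, mem_bot, inv_mul_eq_one] at hm
      exact Prod.ext (Subtype.ext hm.symm) (Subtype.ext (by rw [hm] at h'; exact mul_left_cancel h'))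
    · obtain ⟨o, ho, s, hs, h⟩ := K.mem_OSsub.1 g.2
      exact ⟨⟨⟨o, ho⟩, ⟨s, hs⟩⟩, Subtype.ext (Subtype.ext h.symm)⟩
  rw [← Nat.card_eq_of_bijective e he, Nat.card_prod, K.card_S]

theorem index_OSsub : K.OSsub.index = K.n := by
  have h := K.OSsub.card_mul_index
  rw [K.card_OSsub, K.card_centralizer, mul_assoc] at h
  exact Nat.eq_of_mul_eq_mul_left (by norm_num : 0 < 64) (Nat.eq_of_mul_eq_mul_left Nat.card_pos h)

theorem gen_normalizes (q : G) (hq : q ∈ K.Q) {g : K.cA} (hg : g ∈ K.OSsub) :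
    (⟨q, K.Q_le hq⟩ : K.cA) * g * (⟨q, K.Q_le hq⟩ : K.cA)⁻¹ ∈ K.OSsub := by
  obtain ⟨o, ho, s, hs, e⟩ := K.mem_OSsub.1 hg
  refine K.mem_OSsub.2 ⟨q * o * q⁻¹, ?_, q * s * q⁻¹, ?_, by push_cast; rw [e]; group⟩
  · exact K.mem_O'.1 (K.normal_O'.conj_mem (⟨o, K.O_le ho⟩ : K.cA) (K.mem_O'.2 ho) ⟨q, K.Q_le hq⟩)
  · exact (Subgroup.mem_normalizer_iff.1 (K.Q_normalizes hq) s).1 hs

instance normal_OSsub : K.OSsub.Normal := by
  refine ⟨fun g hg h => ?_⟩
  obtain ⟨o, ho, s, hs, q, hq, e⟩ := (K.cover h).1 h.2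
  have he : h = (⟨o, K.O_le ho⟩ * ⟨s, K.S_le' hs⟩) * ⟨q, K.Q_le hq⟩ := Subtype.ext e
  have hos : (⟨o, K.O_le ho⟩ * ⟨s, K.S_le' hs⟩ : K.cA) ∈ K.OSsub := K.mem_OSsub.2 ⟨o, ho, s, hs, rfl⟩
  rw [he]
  have h1 := mul_mem (mul_mem hos (K.gen_normalizes q hq hg)) (inv_mem hos)
  convert h1 using 1
  group

theorem isPSolvable_cA : Cfsg.IsPSolvable 2 K.cA := by
  refine ⟨3, ![⊥, K.O', K.OSsub, ⊤], rfl, rfl, ?_, ?_, ?_⟩
  · refine Fin.monotone_iff_le_succ.2 fun i => ?_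
    fin_cases i
    · exact bot_le
    · exact K.O'_le_OSsub
    · exact le_top
  · intro i; fin_cases i <;> simp <;> infer_instance
  · intro i
    fin_cases i
    · refine Or.inr ?_
      show ((⊥ : Subgroup K.cA).relIndex K.O').Coprime 2
      rw [relIndex_bot_left, K.card_O']
      exact Nat.coprime_two_right.2 K.O_odd
    · refine Or.inl ⟨6, ?_⟩
      show K.O'.relIndex K.OSsub = 2 ^ 6
      have h := card_mul_index (K.O'.subgroupOf K.OSsub)
      rw [Nat.card_congr (subgroupOfEquivOfLe K.O'_le_OSsub).toEquiv, K.card_OSsub, K.card_O'] at h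
      exact Nat.eq_of_mul_eq_mul_left Nat.card_pos h
    · refine Or.inr ?_
      show (K.OSsub.relIndex ⊤).Coprime 2
      rw [relIndex_top_right, K.index_OSsub]
      rcases K.n_eq with h | h <;> rw [h] <;> decide

/-- The principal block of `C(a)` consists of the characters trivial on the core. -/
theorem mem_principalBlock_iff {M : Ideal AlgInt} (hM : IsPModular 2 M) (ψ : IrrCharacter K.cA) :
    ψ ∈ principalBlock M K.cA ↔ ∀ o ∈ K.O', (ψ : K.cA → ℂ) o = (ψ : K.cA → ℂ) 1 := by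
  have : Fact (Nat.Prime 2) := ⟨Nat.prime_two⟩
  cases nonempty_fintype K.cA
  refine ⟨fun h o ho => H82.apply_eq_of_mem_principalBlock hM h K.O' Cores.not_dvd_card_pPrimeCore ho,
    fun h => H85.mem_principalBlock_of_trivial_on_core hM K.isPSolvable_cA ψ h⟩

/-- The generator modulo `O S`. -/
noncomputable def gbar : K.cA ⧸ K.OSsub := QuotientGroup.mk ⟨K.gen, K.gen_mem_cA⟩

theorem mem_zpowers_gbar (x : K.cA ⧸ K.OSsub) : x ∈ zpowers K.gbar := by
  obtain ⟨g, rfl⟩ := QuotientGroup.mk_surjective x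
  obtain ⟨o, ho, s, hs, q, hq, e⟩ := (K.cover g).1 g.2
  rw [K.Q_eq] at hq
  obtain ⟨k, rfl⟩ := mem_zpowers_iff.1 hq
  refine ⟨k, ?_⟩
  have hg : g = ⟨o * s, mul_mem (K.O_le ho) (K.S_le' hs)⟩ * (⟨K.gen, K.gen_mem_cA⟩ : K.cA) ^ k :=
    Subtype.ext (by simpa using e)
  have h0 : (QuotientGroup.mk (⟨o * s, mul_mem (K.O_le ho) (K.S_le' hs)⟩ : K.cA) : K.cA ⧸ K.OSsub) = 1 :=
    (QuotientGroup.eq_one_iff _).2 (K.mem_OSsub.2 ⟨o, ho, s, hs, rfl⟩)
  show K.gbar ^ k = _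
  rw [hg, QuotientGroup.mk_mul, h0, one_mul, QuotientGroup.mk_zpow]
  rfl

theorem orderOf_gbar : orderOf K.gbar = K.n := by
  rw [← Nat.card_zpowers, show zpowers K.gbar = ⊤ from (eq_top_iff' _).2 K.mem_zpowers_gbar, card_top]
  exact K.index_OSsub

/-- The character of `C(a)` trivial on `O S` with value `z` at the generator. -/
noncomputable def lam (z : ℂˣ) (hz : z ^ K.n = 1) : K.cA →* ℂˣ :=
  (monoidHomOfForallMemZpowers K.mem_zpowers_gbar
    (g' := z) (by rw [K.orderOf_gbar]; exact orderOf_dvd_of_pow_eq_one hz)).comp (QuotientGroup.mk' K.OSsub)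

theorem lam_gen (z : ℂˣ) (hz : z ^ K.n = 1) : K.lam z hz ⟨K.gen, K.gen_mem_cA⟩ = z :=
  monoidHomOfForallMemZpowers_apply_gen K.mem_zpowers_gbar (g' := z) (by rw [K.orderOf_gbar]; exact orderOf_dvd_of_pow_eq_one hz)

theorem lam_OSsub (z : ℂˣ) (hz : z ^ K.n = 1) {g : K.cA} (hg : g ∈ K.OSsub) : K.lam z hz g = 1 := by
  rw [lam, MonoidHom.comp_apply, QuotientGroup.mk'_apply, (QuotientGroup.eq_one_iff g).2 hg, map_one]

theorem lam_mul_gen_pow (z : ℂˣ) (hz : z ^ K.n = 1) {g : K.cA} (hg : g ∈ K.OSsub) (m : ℕ) :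
    K.lam z hz (g * ⟨K.gen, K.gen_mem_cA⟩ ^ m) = z ^ m := by
  rw [map_mul, K.lam_OSsub z hz hg, one_mul, map_pow, K.lam_gen]

/-- `lam` as an irreducible character. -/
noncomputable def lamIrr (z : ℂˣ) (hz : z ^ K.n = 1) : IrrCharacter K.cA :=
  ⟨fun g => (K.lam z hz g : ℂ), by cases nonempty_fintype K.cA; exact CharInduce.isIrrCharacter_hom (K.lam z hz)⟩

theorem lamIrr_mem {M : Ideal AlgInt} (hM : IsPModular 2 M) (z : ℂˣ) (hz : z ^ K.n = 1) :
    K.lamIrr z hz ∈ principalBlock M K.cA :=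
  (K.mem_principalBlock_iff hM _).2 fun o ho => by
    show ((K.lam z hz o : ℂˣ) : ℂ) = (K.lam z hz 1 : ℂˣ)
    rw [K.lam_OSsub z hz (K.O'_le_OSsub ho), map_one]

end Cfsg.Agent.H53.U34.Cfg
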