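import Cfsg.Agent.H53.U34.Chars.General
import Cfsg.Agent.H53.U34.Chars.Quot
import Cfsg.Agent.H63.U34.SectionValues
import Mathlib.RingTheory.RootsOfUnity.Complex

/-!
# Characters outside the principal block have zero sums over the special sections
-/

set_option autoImplicit false
set_option linter.unusedSectionVars false

open scoped ComplexConjugate Classical

namespace Cfsg.Agent.H53.U34.Cfg

open Subgroup CharBasic

universe u

variable {G : Type u} [Group G] [Fintype G] (K : Cfg G)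

/-- The elements of the `a`-section over `q^m`, as a finset. -/
noncomputable def sA (m : ℕ) : Finset G := Finset.univ.filter (· ∈ K.TA m)

/-- The order-4 sections over `a`, as a finset. -/
noncomputable def sW : Finset G := Finset.univ.filter (· ∈ K.TW)

theorem mem_sA {m : ℕ} {g : G} : g ∈ K.sA m ↔ g ∈ K.TA m := by simp [sA]

theorem mem_sW {g : G} : g ∈ K.sW ↔ g ∈ K.TW := by simp [sW]

theorem card_sA_zero : (K.sA 0).card = Nat.card K.O := by
  rw [← K.ncard_TA_zero, Set.ncard_eq_toFinset_card']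
  congr 1; ext g; simp [sA]

theorem card_sA {m : ℕ} (hm0 : 0 < m) (hm : m < K.n) : (K.sA m).card = 16 * Nat.card K.O := by
  rw [← K.ncard_TA hm0 hm, Set.ncard_eq_toFinset_card']
  congr 1; ext g; simp [sA]

theorem card_sW : K.sW.card = 20 * Nat.card K.O := by
  rw [← K.ncard_TW, Set.ncard_eq_toFinset_card']
  congr 1; ext g; simp [sW]

/-- Elements of odd order of `C(a)` are conjugate into the cosets `O q^m`. -/
theorem regular_form {y : K.cA} (hy : ¬ 2 ∣ orderOf y) :
    ∃ h ∈ K.cA, ∃ o ∈ K.O, ∃ m < K.n, (y : G) = h * (o * K.gen ^ m) * h⁻¹ := by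
  have hodd : Odd (orderOf y) := Nat.not_even_iff_odd.1 fun h => hy (even_iff_two_dvd.1 h)
  set ρ := QuotientGroup.mk' K.O'
  set q : K.cA := ⟨K.gen, K.gen_mem_cA⟩
  have hqn : ρ q ^ K.n = 1 := by
    rw [← map_pow, QuotientGroup.mk'_apply, QuotientGroup.eq_one_iff, K.mem_O']
    exact K.gen_pow_mem
  have hcard : Nat.card (K.cA ⧸ K.O') = 64 * K.n := by
    have h := K.O'.card_mul_index
    rw [K.card_O', K.card_centralizer] at h
    exact Nat.eq_of_mul_eq_mul_left Nat.card_pos h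
  have hdvd : orderOf (ρ y) ∣ K.n := by
    have h1 : orderOf (ρ y) ∣ 2 ^ 6 * K.n := by
      rw [show (2 : ℕ) ^ 6 = 64 from rfl, ← hcard]; exact orderOf_dvd_natCard _
    exact (Nat.Coprime.pow_right 6 (Nat.coprime_two_right.2
      (hodd.of_dvd_nat (orderOf_map_dvd ρ y)))).dvd_of_dvd_mul_left h1
  have finish : ∀ (h : K.cA) (m : ℕ), ρ y = ρ h * ρ q ^ m * (ρ h)⁻¹ →
      ∃ h ∈ K.cA, ∃ o ∈ K.O, ∃ m < K.n, (y : G) = h * (o * K.gen ^ m) * h⁻¹ := by
    intro h m e
    rw [pow_eq_pow_mod m hqn, ← map_pow, ← map_inv, ← map_mul, ← map_mul, QuotientGroup.mk'_apply,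
      QuotientGroup.mk'_apply, eq_comm, QuotientGroup.eq_iff_div_mem, div_eq_mul_inv] at e
    have e' := K.mem_O'.1 (inv_mem e)
    rw [mul_inv_rev, inv_inv] at e'
    refine ⟨h, h.2, (h : G)⁻¹ * ((y : G) * ((h : G) * K.gen ^ (m % K.n) * (h : G)⁻¹)⁻¹) * (h : G), ?_,
      m % K.n, Nat.mod_lt _ K.n_pos, by group⟩
    have := K.conj_mem_O (inv_mem h.2) (show (y : G) * ((h : G) * K.gen ^ (m % K.n) * (h : G)⁻¹)⁻¹ ∈ K.O by
      simpa [q] using e')
    simpa using this
  rcases K.n_eq with hn | hn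
  · refine finish 1 0 ?_
    rw [hn, Nat.dvd_one, orderOf_eq_one_iff] at hdvd
    simp [hdvd]
  · have h5 : Fact (Nat.Prime 5) := ⟨by norm_num⟩
    rw [hn] at hdvd hcard
    have hq5 : orderOf (ρ q) = 5 := by
      refine orderOf_eq_prime (hn ▸ hqn) fun h => ?_
      rw [QuotientGroup.mk'_apply, QuotientGroup.eq_one_iff, K.mem_O'] at h
      have := Nat.dvd_one.1 (K.gen_pow_mem_O_iff.1 (by rwa [pow_one] : K.gen ^ 1 ∈ K.O))
      omega
    have hfac : (Nat.card (K.cA ⧸ K.O')).factorization 5 = 1 := by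
      rw [hcard, Nat.factorization_mul (by norm_num) (by norm_num), Finsupp.add_apply,
        Nat.factorization_eq_zero_of_not_dvd (by norm_num), zero_add,
        Nat.Prime.factorization_self (by norm_num)]
    let P : Sylow 5 (K.cA ⧸ K.O') := Sylow.ofCard (zpowers (ρ q)) (by rw [Nat.card_zpowers, hq5, hfac, pow_one])
    have hyp : IsPGroup 5 (zpowers (ρ y)) := by
      rcases (Nat.dvd_prime (by norm_num : Nat.Prime 5)).1 hdvd with h | h
      · exact IsPGroup.of_card (n := 0) (by rw [Nat.card_zpowers, h, pow_zero])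
      · exact IsPGroup.of_card (n := 1) (by rw [Nat.card_zpowers, h, pow_one])
    obtain ⟨R, hR⟩ := hyp.exists_le_sylow
    obtain ⟨g, hg⟩ := MulAction.exists_smul_eq (K.cA ⧸ K.O') P R
    have hmem : ρ y ∈ ((g • P : Sylow 5 (K.cA ⧸ K.O')) : Subgroup _) := hg ▸ hR (mem_zpowers _)
    rw [Sylow.coe_subgroup_smul] at hmem
    obtain ⟨z, hz, hzy⟩ := hmem
    obtain ⟨m, hm⟩ := (mem_powers_iff_mem_zpowers).2 hz
    obtain ⟨h, rfl⟩ := QuotientGroup.mk'_surjective K.O' g
    refine finish h m ?_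
    rw [← hzy]
    simp only [← hm]
    rfl

/-- A function on `C(a)` times a class sum over regular elements, split along the cosets `q^m`. -/
theorem sum_regular_split [Fintype K.cA] (F : G → ℂ) :
    ∑ y ∈ Finset.univ.filter (fun y : K.cA => ¬ 2 ∣ orderOf y), F (K.a * (y : G)) =
      ∑ m ∈ Finset.range K.n, ∑ g ∈ K.sA m, F g := by
  rw [← Finset.sum_biUnion (fun i hi j hj hij => Finset.disjoint_left.2 fun g hgi hgj =>
    Set.disjoint_left.1 (K.disjoint_TA (Finset.mem_range.1 hi) (Finset.mem_range.1 hj) hij)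
      (K.mem_sA.1 hgi) (K.mem_sA.1 hgj))]
  refine Finset.sum_bij (fun y _ => K.a * (y : G)) ?_ ?_ ?_ (fun _ _ => rfl)
  · intro y hy
    obtain ⟨h, hh, o, ho, m, hm, e⟩ := K.regular_form (Finset.mem_filter.1 hy).2
    refine Finset.mem_biUnion.2 ⟨m, Finset.mem_range.2 hm, K.mem_sA.2 ⟨h, hh, o, ho, ?_⟩⟩
    rw [e, ← mul_assoc h K.a, K.a_comm hh]
    group
  · exact fun y _ y' _ h => Subtype.ext (mul_left_cancel h)
  · intro g hg
    obtain ⟨m, -, hg⟩ := Finset.mem_biUnion.1 hg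
    obtain ⟨h, hh, o, ho, e⟩ := K.mem_sA.1 hg
    have hy : h * (o * K.gen ^ m) * h⁻¹ ∈ K.cA :=
      mul_mem (mul_mem hh (mul_mem (K.O_le ho) (K.gen_pow_mem_C m))) (inv_mem hh)
    refine ⟨⟨_, hy⟩, Finset.mem_filter.2 ⟨Finset.mem_univ _, ?_⟩, ?_⟩
    · have h1 : orderOf (h * (o * K.gen ^ m) * h⁻¹) = orderOf (o * K.gen ^ m) :=
        orderOf_injective (MulAut.conj h).toMonoidHom (MulAut.conj h).injective _
      rw [← Subgroup.orderOf_coe, Subgroup.coe_mk, h1]
      exact fun hd => Nat.not_even_iff_odd.2 (H27.U34.odd_orderOf K.odd_QO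
        (mul_mem (mem_sup_right ho) (mem_sup_left (K.gen_pow_mem_Q m)))) (even_iff_two_dvd.2 hd)
    · rw [e, ← mul_assoc h K.a, K.a_comm hh]
      group

/-- The `lam` character at `o q^m`, up to conjugation. -/
theorem lam_conj (z : ℂˣ) (hz : z ^ K.n = 1) {h o : G} {m : ℕ} (hh : h ∈ K.cA) (ho : o ∈ K.O)
    {y : K.cA} (e : (y : G) = h * (o * K.gen ^ m) * h⁻¹) : (K.lamIrr z hz : K.cA → ℂ) y = (z : ℂ) ^ m := by
  have hy : y = ⟨h, hh⟩ * (⟨o, K.O_le ho⟩ * ⟨K.gen, K.gen_mem_cA⟩ ^ m) * (⟨h, hh⟩ : K.cA)⁻¹ :=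
    Subtype.ext (by simpa using e)
  show ((K.lam z hz y : ℂˣ) : ℂ) = _
  rw [hy, map_mul, map_mul, map_inv, mul_comm (K.lam z hz ⟨h, hh⟩), mul_inv_cancel_right,
    K.lam_mul_gen_pow z hz (K.O'_le_OSsub (K.mem_O'.2 ho)) m, Units.val_pow_eq_pow_val]

variable {M : Ideal AlgInt} {ζ : IrrCharacter G}

/-- Twisted sums over the section of `a` vanish outside the principal block. -/
theorem sum_twist_eq_zero (hM : IsPModular 2 M) (hζ : ζ ∉ principalBlock M G) (z : ℂˣ)
    (hz : z ^ K.n = 1) :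
    ∑ m ∈ Finset.range K.n, (z : ℂ)⁻¹ ^ m * ∑ g ∈ K.sA m, (ζ : G → ℂ) g = 0 := by
  have : Fact (Nat.Prime 2) := ⟨Nat.prime_two⟩
  cases nonempty_fintype K.cA
  have hx : orderOf K.a = 2 ^ 1 := by rw [pow_one]; exact K.orderOf_a
  have h0 := Chars.sum_section_eq_zero hM hx hζ (φ := K.lamIrr z hz) (K.lamIrr_mem hM z hz)
  set F : G → ℂ := fun g => (ζ : G → ℂ) g *
    if hg : K.a * g ∈ K.cA then conj ((K.lamIrr z hz : K.cA → ℂ) ⟨K.a * g, hg⟩) else 0 with hF
  have hy : ∀ y : K.cA, F (K.a * (y : G)) = (ζ : G → ℂ) (K.a * (y : G)) * conj ((K.lamIrr z hz : K.cA → ℂ) y) := by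
    intro y
    have he : K.a * (K.a * (y : G)) = y := by rw [← mul_assoc, K.a_mul_self, one_mul]
    simp only [hF, he, dif_pos y.2, Subtype.coe_eta]
  rw [← Finset.sum_congr rfl fun y _ => hy y, K.sum_regular_split F] at h0
  rw [← h0]
  refine Finset.sum_congr rfl fun m _ => ?_
  rw [Finset.mul_sum]
  refine Finset.sum_congr rfl fun g hg => ?_
  obtain ⟨h, hh, o, ho, e⟩ := K.mem_sA.1 hg
  have he : K.a * g = h * (o * K.gen ^ m) * h⁻¹ := by
    calc K.a * g = K.a * h * K.a * (o * K.gen ^ m) * h⁻¹ := by rw [e]; group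
      _ = h * (K.a * K.a) * (o * K.gen ^ m) * h⁻¹ := by rw [← K.a_comm hh]; group
      _ = _ := by rw [K.a_mul_self]; group
  have hmem : K.a * g ∈ K.cA :=
    he ▸ mul_mem (mul_mem hh (mul_mem (K.O_le ho) (K.gen_pow_mem_C m))) (inv_mem hh)
  simp only [hF, dif_pos hmem, K.lam_conj z hz hh ho (y := ⟨K.a * g, hmem⟩) he, map_pow]
  rw [show conj (z : ℂ) = (z : ℂ)⁻¹ from (Complex.inv_eq_conj (Complex.norm_eq_one_of_pow_eq_one
    (by rw [← Units.val_pow_eq_pow_val, hz, Units.val_one]) K.n_pos.ne')).symm]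
  ring

/-- Sums over each part of the section of `a` vanish outside the principal block. -/
theorem sum_sA_eq_zero (hM : IsPModular 2 M) (hζ : ζ ∉ principalBlock M G) {m : ℕ} (hm : m < K.n) :
    ∑ g ∈ K.sA m, (ζ : G → ℂ) g = 0 := by
  have hn : K.n ≠ 0 := K.n_pos.ne'
  obtain ⟨w, hw⟩ : ∃ w : ℂ, IsPrimitiveRoot w K.n := ⟨_, Complex.isPrimitiveRoot_exp K.n hn⟩
  set T : ℕ → ℂ := fun i => ∑ g ∈ K.sA i, (ζ : G → ℂ) g
  have hw0 : w ≠ 0 := hw.ne_zero hn
  have key : ∀ k : ℕ, ∑ i ∈ Finset.range K.n, (w ^ k) ^ i * T i = 0 := by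
    intro k
    have h := K.sum_twist_eq_zero hM hζ ((Units.mk0 w hw0)⁻¹ ^ k) (by
      rw [← pow_mul, mul_comm, pow_mul, inv_pow,
        show Units.mk0 w hw0 ^ K.n = 1 from Units.ext (by simpa using hw.pow_eq_one), inv_one, one_pow])
    simpa using h
  have hsum : ∑ k ∈ Finset.range K.n, w⁻¹ ^ (m * k) * (∑ i ∈ Finset.range K.n, (w ^ k) ^ i * T i) =
      (K.n : ℂ) * T m := by
    simp only [Finset.mul_sum]
    rw [Finset.sum_comm, Finset.sum_eq_single m]
    · rw [Finset.sum_congr rfl (g := fun _ => T m), Finset.sum_const, Finset.card_range, nsmul_eq_mul]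
      intro k _
      rw [← pow_mul, mul_comm k m, ← mul_assoc, ← mul_pow, inv_mul_cancel₀ hw0, one_pow, one_mul]
    · intro i hi hne
      have hr : w⁻¹ ^ m * w ^ i ≠ 1 := by
        intro h
        rw [inv_pow, inv_mul_eq_one₀ (pow_ne_zero _ hw0)] at h
        exact hne (hw.pow_inj hm (Finset.mem_range.1 hi) h).symm
      have hgeom : ∑ k ∈ Finset.range K.n, (w⁻¹ ^ m * w ^ i) ^ k = 0 := by
        rw [geom_sum_eq hr, mul_pow, ← pow_mul, ← pow_mul, mul_comm m, mul_comm i, pow_mul, pow_mul,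
          inv_pow, hw.pow_eq_one, inv_one, one_pow, one_pow, one_mul, sub_self, zero_div]
      calc ∑ k ∈ Finset.range K.n, w⁻¹ ^ (m * k) * ((w ^ k) ^ i * T i)
          = (∑ k ∈ Finset.range K.n, (w⁻¹ ^ m * w ^ i) ^ k) * T i := by
            rw [Finset.sum_mul]
            exact Finset.sum_congr rfl fun k _ => by
              rw [mul_pow, ← pow_mul, ← pow_mul, ← pow_mul, mul_comm k i]; ring
        _ = 0 := by rw [hgeom, zero_mul]
    · exact fun h => absurd (Finset.mem_range.2 hm) h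
  rw [Finset.sum_eq_zero fun k _ => by rw [key k, mul_zero]] at hsum
  exact (mul_eq_zero.1 hsum.symm).resolve_left (Nat.cast_ne_zero.2 hn)

/-- Sums over the sections of the elements of order 4 vanish outside the principal block. -/
theorem sum_sW_eq_zero (hM : IsPModular 2 M) (hζ : ζ ∉ principalBlock M G) :
    ∑ g ∈ K.sW, (ζ : G → ℂ) g = 0 := by
  have : Fact (Nat.Prime 2) := ⟨Nat.prime_two⟩
  have hx : ∀ x ∈ K.W K.a, ∑ o ∈ Finset.univ.filter (· ∈ K.O), (ζ : G → ℂ) (o * x) = 0 := by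
    rintro x ⟨hxS, hxx⟩
    obtain ⟨e, he⟩ := K.exists_orderOf_S hxS
    set H := Subgroup.centralizer ({x} : Set G)
    cases nonempty_fintype H
    set P := Finset.univ.filter (· ∈ K.O)
    set V := P.filter (Commute x)
    have htriv : BlockBasic.trivialIrr ∈ principalBlock M (H : Subgroup G) :=
      BlockBasic.sameBlock_refl hM _
    have h0 := Chars.sum_section_eq_zero hM he hζ (φ := BlockBasic.trivialIrr) htriv
    have hV : ∑ v ∈ V, (ζ : G → ℂ) (x * v) = 0 := by
      refine Eq.trans ?_ h0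
      refine (Finset.sum_bij (fun y _ => ((y : H) : G)) ?_ (fun y _ y' _ h => Subtype.ext h) ?_
        (fun y _ => by show _ * conj (1 : ℂ) = _; rw [map_one, mul_one])).symm
      · intro y hy
        have hcomm : Commute x (y : G) := (Subgroup.mem_centralizer_singleton_iff.1 y.2).symm
        have hyC : (y : G) ∈ K.cA := by
          rw [Subgroup.mem_centralizer_singleton_iff, ← hxx]
          exact (hcomm.mul_left hcomm).eq.symm
        refine Finset.mem_filter.2 ⟨Finset.mem_filter.2 ⟨Finset.mem_univ _, ?_⟩, hcomm⟩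
        obtain ⟨h, hh, o, ho, m, hm, hye⟩ := K.regular_form (y := ⟨y, hyC⟩) (by
          rw [← Subgroup.orderOf_coe, Subgroup.coe_mk, Subgroup.orderOf_coe]
          exact (Finset.mem_filter.1 hy).2)
        change (y : G) = _ at hye
        rcases Nat.eq_zero_or_pos m with rfl | hm0
        · rw [hye, pow_zero, mul_one]; exact K.conj_mem_O hh ho
        exfalso
        set x' := h⁻¹ * x * h with hx'
        have hx'C : x' ∈ K.cA := mul_mem (mul_mem (inv_mem hh) (K.S_le hxS)) hh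
        have hx'2 : x' * x' = K.a := by
          have : h⁻¹ * (x * x) * h = K.a := by rw [hxx, mul_assoc, ← K.a_comm hh, inv_mul_cancel_left]
          rw [← this, hx']; group
        have hc' : Commute x' (o * K.gen ^ m) := by
          have e2 : o * K.gen ^ m = h⁻¹ * (y : G) * h := by rw [hye]; group
          rw [e2, hx', commute_iff_eq]
          calc h⁻¹ * x * h * (h⁻¹ * (y : G) * h) = h⁻¹ * (x * y) * h := by group
            _ = h⁻¹ * (y * x) * h := by rw [hcomm.eq]
            _ = _ := by group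
        obtain ⟨o', ho', s, hs, i, hi, hdec⟩ := K.exists_decomp hx'C
        have hsq : x' * x' * (K.gen ^ (i + i))⁻¹ ∈ K.OS := by
          have h1 : x' * (K.gen ^ i)⁻¹ ∈ K.OS := by
            rw [hdec, mul_inv_cancel_right]; exact mul_mem (mem_sup_left ho') (mem_sup_right hs)
          have h2 := mul_mem h1 ((Subgroup.mem_normalizer_iff.1
            (K.le_normalizer_OS (K.gen_pow_mem_C i)) _).1 h1)
          convert h2 using 1
          rw [pow_add]; group
        rw [hx'2] at hsq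
        have hgi : K.gen ^ (i + i) ∈ K.OS := by
          have := mul_mem (inv_mem hsq) (mem_sup_right (K.mem_Z_iff.1 K.a_mem_Z).1 : K.a ∈ K.OS)
          simpa using this
        have hi0 : i = 0 := by
          have hd := K.gen_pow_mem_OS_iff.1 hgi
          rcases K.n_eq with hn | hn <;> rw [hn] at hd hi <;> omega
        subst hi0
        rw [pow_zero, mul_one] at hdec
        set q := K.gen ^ m
        have hqO : q ∉ K.O := fun hh' => hm.not_ge (Nat.le_of_dvd hm0 (K.gen_pow_mem_O_iff.1 hh'))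
        have hqS : q * s * q⁻¹ ∈ (K.S : Subgroup G) := K.conj_mem_S_of_Q (K.gen_pow_mem_Q m) hs
        have heq : o' * s = (o * (q * o' * q⁻¹) * ((q * s * q⁻¹) * o⁻¹ * (q * s * q⁻¹)⁻¹)) *
            (q * s * q⁻¹) := by
          rw [← hdec]
          have h4 : x' = (o * q) * x' * (o * q)⁻¹ := by rw [← hc'.eq]; group
          conv_lhs => rw [h4, hdec]
          group
        have hss := (K.mul_inj_OS ho' (mul_mem (mul_mem ho (K.conj_mem_O (K.gen_pow_mem_C m) ho'))
          (K.conj_mem_O (K.S_le hqS) (inv_mem ho))) hs hqS heq).2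
        have hsZ : s ∈ K.Z := K.Q_fpf q (K.gen_pow_mem_Q m) hqO s hs (by
          rw [← hss, mul_inv_cancel]; exact one_mem _)
        have hs2 : s * s = 1 := (K.mem_Z_iff.1 hsZ).2
        have : K.a ∈ K.O := by
          rw [← hx'2, hdec, show o' * s * (o' * s) = o' * (s * o' * s⁻¹) * (s * s) by group, hs2, mul_one]
          exact mul_mem ho' (K.conj_mem_O (K.S_le hs) ho')
        exact K.a_ne_one (K.eq_one_of_mem_S_O (K.mem_Z_iff.1 K.a_mem_Z).1 this)
      · intro v hv
        obtain ⟨hvP, hvc⟩ := Finset.mem_filter.1 hv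
        refine ⟨⟨v, Subgroup.mem_centralizer_singleton_iff.2 hvc.symm.eq⟩,
          Finset.mem_filter.2 ⟨Finset.mem_univ _, ?_⟩, rfl⟩
        rw [← Subgroup.orderOf_coe, Subgroup.coe_mk]
        exact fun hd => Nat.not_even_iff_odd.2 (H27.U34.odd_orderOf K.O_odd
          (Finset.mem_filter.1 hvP).2) (even_iff_two_dvd.2 hd)
    set Φ : G × G → G := fun p => p.1 * (x * p.2) * p.1⁻¹ * x⁻¹ with hΦ
    have hmaps : ∀ p ∈ P ×ˢ V, Φ p ∈ P := by
      rintro ⟨o, v⟩ hp
      obtain ⟨ho, hv⟩ := Finset.mem_product.1 hp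
      have ho' := (Finset.mem_filter.1 ho).2
      have hv' := (Finset.mem_filter.1 (Finset.mem_filter.1 hv).1).2
      refine Finset.mem_filter.2 ⟨Finset.mem_univ _, ?_⟩
      show o * (x * v) * o⁻¹ * x⁻¹ ∈ K.O
      rw [show o * (x * v) * o⁻¹ * x⁻¹ = o * (x * (v * o⁻¹) * x⁻¹) by group]
      exact mul_mem ho' (K.conj_mem_O (K.S_le hxS) (mul_mem hv' (inv_mem ho')))
    have hle : ∀ r ∈ P, ((P ×ˢ V).filter fun p => Φ p = r).card ≤ V.card := by
      intro r _
      rcases ((P ×ˢ V).filter fun p => Φ p = r).eq_empty_or_nonempty with h | ⟨⟨o₁, v₁⟩, h⟩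
      · rw [h, Finset.card_empty]; exact Nat.zero_le _
      obtain ⟨h', h₁⟩ := Finset.mem_filter.1 h
      obtain ⟨ho₁, hv₁⟩ := Finset.mem_product.1 h'
      obtain ⟨hv₁P, hxv₁⟩ := Finset.mem_filter.1 hv₁
      have ho₁' := (Finset.mem_filter.1 ho₁).2
      have hv₁' := (Finset.mem_filter.1 hv₁P).2
      have key : ∀ p ∈ (P ×ˢ V).filter (fun p => Φ p = r), o₁⁻¹ * p.1 ∈ V ∧
          o₁⁻¹ * p.1 * (x * p.2) * (o₁⁻¹ * p.1)⁻¹ = x * v₁ := by
        rintro ⟨o, v'⟩ hp
        obtain ⟨hp', hpr⟩ := Finset.mem_filter.1 hp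
        obtain ⟨ho, hv'⟩ := Finset.mem_product.1 hp'
        obtain ⟨hv'P, hxv'⟩ := Finset.mem_filter.1 hv'
        have hpr' : o * (x * v') * o⁻¹ = o₁ * (x * v₁) * o₁⁻¹ :=
          mul_right_cancel (hpr.trans h₁.symm)
        show o₁⁻¹ * o ∈ V ∧ o₁⁻¹ * o * (x * v') * (o₁⁻¹ * o)⁻¹ = x * v₁
        set c := o₁⁻¹ * o with hc
        have hconj : c * (x * v') * c⁻¹ = x * v₁ := by
          calc c * (x * v') * c⁻¹ = o₁⁻¹ * (o * (x * v') * o⁻¹) * o₁ := by rw [hc]; group
            _ = _ := by rw [hpr']; group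
        refine ⟨Finset.mem_filter.2 ⟨Finset.mem_filter.2 ⟨Finset.mem_univ _,
          mul_mem (inv_mem ho₁') (Finset.mem_filter.1 ho).2⟩, ?_⟩, hconj⟩
        -- raise to a power killing the odd parts
        set N := Nat.card K.O with hN
        have hp1 : ∀ u ∈ K.O, Commute x u → (x * u) ^ N = x ^ N := fun u hu hxu => by
          have h1 : (⟨u, hu⟩ : K.O) ^ N = 1 := pow_card_eq_one'
          rw [hxu.mul_pow, show u ^ N = 1 from congrArg Subtype.val h1, mul_one]
        have h2 : c * x ^ N * c⁻¹ = x ^ N := by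
          have h2 := congrArg (· ^ N) hconj
          simpa only [conj_pow, hp1 v' (Finset.mem_filter.1 hv'P).2 hxv',
            hp1 v₁ hv₁' hxv₁] using h2
        have hgen : x ∈ zpowers (x ^ N) := by
          have hcop : N.Coprime (orderOf x) := by
            rw [he]; exact (Nat.coprime_two_right.2 K.O_odd).pow_right _
          obtain ⟨u, hu⟩ := exists_pow_eq_self_of_coprime hcop
          exact ⟨u, by simpa using hu⟩
        obtain ⟨j, hj⟩ := mem_zpowers_iff.1 hgen
        have h3 : Commute (x ^ N) c := (mul_inv_eq_iff_eq_mul.1 h2).symm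
        rw [← hj]; exact h3.zpow_left j
      refine Finset.card_le_card_of_injOn (fun p => o₁⁻¹ * p.1) (fun p hp => (key p hp).1) ?_
      intro p hp p' hp' e
      have e1 : p.1 = p'.1 := mul_left_cancel e
      refine Prod.ext e1 (mul_left_cancel (a := x) (mul_left_cancel (a := o₁⁻¹ * p.1)
        (mul_right_cancel (b := (o₁⁻¹ * p.1)⁻¹) ?_)))
      rw [(key p hp).2, e1, (key p' hp').2]
    have hfib : ∀ r ∈ P, ((P ×ˢ V).filter fun p => Φ p = r).card = V.card :=
      (Finset.sum_eq_sum_iff_of_le hle).1 (by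
        rw [← Finset.card_eq_sum_card_fiberwise hmaps, Finset.card_product, Finset.sum_const,
          smul_eq_mul])
    have h1 : ∑ p ∈ P ×ˢ V, (ζ : G → ℂ) (Φ p * x) = 0 := by
      rw [Finset.sum_product]
      refine Finset.sum_eq_zero fun o _ => ?_
      rw [← hV]
      refine Finset.sum_congr rfl fun v _ => ?_
      rw [hΦ]
      simp only [inv_mul_cancel_right]
      exact IsIrr.isClassFunction ζ.2 (x * v) o
    rw [← Finset.sum_fiberwise_of_maps_to hmaps] at h1
    rw [Finset.sum_congr rfl (g := fun r => (V.card : ℂ) * (ζ : G → ℂ) (r * x)) (fun r hr => by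
      rw [Finset.sum_congr rfl (fun p hp => by rw [(Finset.mem_filter.1 hp).2]), Finset.sum_const,
        hfib r hr, nsmul_eq_mul]), ← Finset.mul_sum] at h1
    refine (mul_eq_zero.1 h1).resolve_left (Nat.cast_ne_zero.2 (Finset.card_pos.2 ⟨1, ?_⟩).ne')
    exact Finset.mem_filter.2 ⟨Finset.mem_filter.2 ⟨Finset.mem_univ _, one_mem _⟩, Commute.one_right x⟩
  have hdec : K.sW = ((Finset.univ.filter fun x => x ∈ K.W K.a) ×ˢ Finset.univ.filter (· ∈ K.O)).image
      fun p => p.2 * p.1 := by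
    ext g
    simp only [mem_sW, K.TW_eq, Finset.mem_image, Finset.mem_product, Finset.mem_filter, Finset.mem_univ,
      true_and, Set.mem_ofPred_eq, Prod.exists]
    exact ⟨fun ⟨o, ho, x, hx', e⟩ => ⟨x, o, ⟨hx', ho⟩, e.symm⟩, fun ⟨x, o, ⟨hx', ho⟩, e⟩ => ⟨o, ho, x, hx', e.symm⟩⟩
  rw [hdec, Finset.sum_image, Finset.sum_product]
  · exact Finset.sum_eq_zero fun x hx' => hx x (Finset.mem_filter.1 hx').2
  · rintro ⟨x, o⟩ hp ⟨x', o'⟩ hp' e
    simp only [Finset.mem_coe, Finset.mem_product, Finset.mem_filter, Finset.mem_univ, true_and] at hp hp'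
    obtain ⟨e1, e2⟩ := K.mul_inj_OS hp.2 hp'.2 hp.1.1 hp'.1.1 e
    rw [e1, e2]

end Cfsg.Agent.H53.U34.Cfg
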